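import Groth.Agent.H9Misc.FlatTwistGlobal
import Groth.Agent.H28.PnFlat
import Groth.Agent.H28.RegTwist
import Groth.Agent.S2330
import Groth.Agent.S9349
import Groth.Agent.AlgSpPts.Sep
import Groth.Agent.StModLib.FinDescent
import Groth.Agent.LimModLib.FlatStage
import Groth.Agent.LimModLib.FP
import Groth.Agent.AmpleVan.FiniteSurj
import Groth.Agent.H23.PullPush
import Groth.Agent.ConsPropLib.FibreLocFree
import Groth.Prelude.Def_LCI2

/-!
# Direct images of high twists of flat finitely presented modules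
-/

set_option autoImplicit false
set_option linter.style.haveILetI false
set_option linter.unusedSectionVars false
set_option backward.isDefEq.respectTransparency false
set_option backward.isDefEq.respectTransparency.types false
set_option maxHeartbeats 800000

universe u

open CategoryTheory CategoryTheory.Limits AlgebraicGeometry TopologicalSpace Opposite
open Groth.Agent.H23 Groth.Agent.H23.PicMul

attribute [local instance] PicMul.clMonoid

noncomputable section

namespace Groth.Agent.FlatRelAmple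

open Groth.Agent

variable {X Z S : Scheme.{u}}

/-- Finite presentation is kept by direct image along a finitely presented closed immersion. -/
theorem isFP_push (i : Z ⟶ X) [IsClosedImmersion i] [LocallyOfFinitePresentation i] {M : Z.Modules}
    (hfp : CohB1.IsFP M) : CohB1.IsFP ((Coh.push i).obj M) := by
  have hq := QCoh.isQCoh_of_isFP hfp
  refine (QCoh.isFP_iff (QCoh.isQCoh_pushforward i hq)).2 fun U => ?_
  have hV : IsAffineOpen (i ⁻¹ᵁ U.1) := U.2.preimage i
  haveI := (QCoh.isFP_iff hq).1 hfp ⟨_, hV⟩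
  have hfin : (i.app U.1).hom.Finite := i.finite_app _ U.2
  have hpres : (i.app U.1).hom.FinitePresentation := by
    rw [← Scheme.Hom.appLE_eq_app]
    exact i.finitePresentation_appLE U.2 hV le_rfl
  letI : Algebra Γ(X, U.1) Γ(Z, i ⁻¹ᵁ U.1) := (i.app U.1).hom.toAlgebra
  haveI : Module.Finite Γ(X, U.1) Γ(Z, i ⁻¹ᵁ U.1) := hfin
  haveI : Algebra.FinitePresentation Γ(X, U.1) Γ(Z, i ⁻¹ᵁ U.1) := hpres
  haveI : Module.FinitePresentation Γ(X, U.1) Γ(Z, i ⁻¹ᵁ U.1) :=
    Module.FinitePresentation.of_finite_of_finitePresentation _ _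
  letI : Module Γ(X, U.1) Γ(M, i ⁻¹ᵁ U.1) := Module.compHom _ (i.app U.1).hom
  haveI : IsScalarTower Γ(X, U.1) Γ(Z, i ⁻¹ᵁ U.1) Γ(M, i ⁻¹ᵁ U.1) :=
    IsScalarTower.of_algebraMap_smul fun _ _ => rfl
  haveI := Module.FinitePresentation.trans Γ(X, U.1) Γ(M, i ⁻¹ᵁ U.1) Γ(Z, i ⁻¹ᵁ U.1)
  exact Module.FinitePresentation.of_equiv (M := Γ(M, i ⁻¹ᵁ U.1))
    { toFun := fun y => y
      invFun := fun y => y
      left_inv := fun _ => rfl
      right_inv := fun _ => rfl
      map_add' := fun _ _ => rfl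
      map_smul' := fun _ _ => rfl }

/-- Finite presentation restricts along open immersions. -/
theorem isFP_restrict (j : Z ⟶ X) [IsOpenImmersion j] {M : X.Modules} (hfp : CohB1.IsFP M) :
    CohB1.IsFP (M.restrict j) :=
  StModLib.isFP_of_iso ((Scheme.Modules.restrictFunctorIsoPullback j).app M).symm
    (LimModLib.isFP_pullback j (QCoh.isQCoh_of_isFP hfp) hfp)

/-- Flatness over the base restricts to opens. -/
theorem isFlatOver_restrict (f : X ⟶ S) {M : X.Modules} (hM : Coh.IsQCoh M) (hfl : FlatMod.IsFlatOver f M)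
    (V : S.Opens) : FlatMod.IsFlatOver (f ∣_ V) (M.restrict (f ⁻¹ᵁ V).ι) := by
  refine (QCoh.isFlatOver_iff (f ∣_ V) (QCoh.isQCoh_restrict _ hM)).2 fun U W hle hU hW => ?_
  have hle' : (f ⁻¹ᵁ V).ι ''ᵁ U ≤ f ⁻¹ᵁ (V.ι ''ᵁ W) :=
    ((f ⁻¹ᵁ V).ι.image_mono hle).trans (image_morphismRestrict_preimage f V W).le
  have h := (QCoh.isFlatOver_iff f hM).1 hfl ((f ⁻¹ᵁ V).ι ''ᵁ U) (V.ι ''ᵁ W) hle' (hU.image_of_isOpenImmersion _)
    (hW.image_of_isOpenImmersion _)
  letI : Module Γ(S, V.ι ''ᵁ W) Γ(M, (f ⁻¹ᵁ V).ι ''ᵁ U) := Module.compHom _ (f.appLE _ _ hle').hom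
  letI : Module Γ(V.toScheme, W) Γ(M.restrict (f ⁻¹ᵁ V).ι, U) := Module.compHom _ ((f ∣_ V).appLE W U hle).hom
  letI : Module Γ(V.toScheme, W) Γ(M, (f ⁻¹ᵁ V).ι ''ᵁ U) := Module.compHom _ (f.appLE _ _ hle').hom
  haveI : Module.Flat Γ(V.toScheme, W) Γ(M, (f ⁻¹ᵁ V).ι ''ᵁ U) := h
  refine Module.Flat.of_linearEquiv (M := Γ(M, (f ⁻¹ᵁ V).ι ''ᵁ U))
    { toFun := fun y => y
      invFun := fun y => y
      left_inv := fun _ => rfl
      right_inv := fun _ => rfl
      map_add' := fun _ _ => rfl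
      map_smul' := fun a y => ?_ }
  have e : (show Γ(X, (f ⁻¹ᵁ V).ι ''ᵁ U) from (f ∣_ V).appLE W U hle a) = f.appLE _ _ hle' a := by
    rw [morphismRestrict_appLE]
    rfl
  show ((f ⁻¹ᵁ V).ι.appIso U).inv ((f ∣_ V).appLE W U hle a) • (show Γ(M, (f ⁻¹ᵁ V).ι ''ᵁ U) from y) =
    f.appLE _ _ hle' a • (show Γ(M, (f ⁻¹ᵁ V).ι ''ᵁ U) from y)
  rw [← e, Scheme.Opens.ι_appIso]
  rfl

/-- The affine case. -/
theorem exists_bound [IsAffine S] (q : X ⟶ S) [IsProper q] [LocallyOfFinitePresentation q] {L : X.Modules}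
    (hL : CohB1.IsAmple L) {F : X.Modules} (hF : CohB1.IsFP F) (hfl : FlatMod.IsFlatOver q F) :
    ∃ N : ℕ, ∀ n : ℕ, N ≤ n →
      FlatMod.IsFinLocFree ((Coh.push q).obj (CohB1.tensorMod F (CohB1.tensorPow L n))) := by
  obtain ⟨d, hd, r, i, himm, hiq, ⟨e⟩⟩ := (S2330.result q L hL.1).1.1 hL
  haveI := himm
  have hiq' : i ≫ KRR.pr r S = q := hiq
  haveI := H28.PnFlat.isProper_pr r S
  haveI := H28.PnFlat.lfp_pr r S
  haveI : IsProper (i ≫ KRR.pr r S) := by rw [hiq']; infer_instance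
  haveI : IsProper i := IsProper.of_comp i (KRR.pr r S)
  haveI : IsClosedImmersion i := IsClosedImmersion.of_isPreimmersion i i.isClosedMap.isClosed_range
  haveI : LocallyOfFinitePresentation (i ≫ KRR.pr r S) := by rw [hiq']; infer_instance
  haveI : LocallyOfFinitePresentation i := AlgSpPts.locallyOfFinitePresentation_of_comp i (KRR.pr r S)
  let G : ℕ → X.Modules := fun j => CohB1.tensorMod (CohB1.tensorPow L j) F
  have hlf : ∀ j, FlatMod.IsFinLocFree (CohB1.tensorPow L j) := fun j =>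
    H23.PullPush.isFinLocFree_of_isInvertible (InvX.isInvertible_tensorPow hL.1 j)
  have hG : ∀ j, CohB1.IsFP (G j) := fun j => H28.PnFlat.isFP_tensor (QCoh.isQCoh_of_isFinLocFree (hlf j))
    (QCoh.isFP_of_isFinLocFree (hlf j)) (QCoh.isQCoh_of_isFP hF) hF
  have hGfl : ∀ j, FlatMod.IsFlatOver (i ≫ KRR.pr r S) (G j) := fun j => by
    rw [hiq']
    exact KFlatLib.isFlatOver_tensor _ (KFlatLib.isFlat_of_isFinLocFree (hlf j)) hfl
  choose m hm using fun j => H28.PnFlat.exists_twist (n := r) (S := S) (isFP_push i (hG j))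
    ((S9349.result i (KRR.pr r S) (G j) (QCoh.isQCoh_of_isFP (hG j))).1 (hGfl j))
  refine ⟨d * ((Finset.range d).sup m + 1), fun n hn => ?_⟩
  set j := n % d with hj
  set a := n / d with ha
  have hja : j + d * a = n := Nat.mod_add_div n d
  have hma : m j ≤ a := by
    have h1 : (Finset.range d).sup m + 1 ≤ a := (Nat.le_div_iff_mul_le hd).2 (by rw [mul_comm]; exact hn)
    have h2 : m j ≤ (Finset.range d).sup m := Finset.le_sup (Finset.mem_range.2 (Nat.mod_lt n hd))
    omega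
  have h := (hm j a hma).2
  have hT : PicF.IsInvertible (Twist.twistOver r S (a : ℤ)) := H28.KRRReg.isInvertible_twistOver _
  obtain ⟨t⟩ := AmpleVan.FiniteSurj.nonempty_push_twist i (G j) hT
  have hcl : PicF.cl (CohB1.tensorMod (G j) ((Scheme.Modules.pullback i).obj (Twist.twistOver r S (a : ℤ)))) =
      PicF.cl (CohB1.tensorMod F (CohB1.tensorPow L n)) := by
    obtain ⟨t1⟩ := H28.RegTwist.tensorPow_twistOver (n := r) (Y := S) a
    obtain ⟨t2⟩ := AmpleVan.RelVanish.pullback_tensorPow i (Twist.twistOver r S 1) a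
    have ht : PicF.cl ((Scheme.Modules.pullback i).obj (Twist.twistOver r S (a : ℤ))) = PicF.cl L ^ (d * a) := by
      rw [cl_eq_iff.2 ⟨(Scheme.Modules.pullback i).mapIso t1.symm ≪≫ t2⟩, cl_tensorPow, cl_eq_iff.2 ⟨e.symm⟩,
        cl_tensorPow, ← pow_mul]
    rw [cl_tensor, show G j = CohB1.tensorMod (CohB1.tensorPow L j) F from rfl, cl_tensor, cl_tensorPow, ht,
      cl_tensor, cl_tensorPow, ← hja, pow_add]
    ac_rfl
  obtain ⟨t3⟩ := cl_eq_iff.1 hcl
  obtain ⟨t4⟩ : Nonempty (KRR.twF r S (a : ℤ) ((Coh.push i).obj (G j)) ≅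
      CohB1.tensorMod ((Coh.push i).obj (G j)) (Twist.twistOver r S (a : ℤ))) := cl_eq_iff.1 (by
    show PicF.cl (CohB1.tensorMod (Twist.twistOver r S (a : ℤ)) ((Coh.push i).obj (G j))) = _
    rw [cl_tensor, cl_tensor, mul_comm])
  exact (ConsPropLib.isFinLocFree_iso ((Scheme.Modules.pushforward (KRR.pr r S)).mapIso
    (t4 ≪≫ t ≪≫ (Coh.push i).mapIso t3) ≪≫ (Scheme.Modules.pushforwardComp i (KRR.pr r S)).app _ ≪≫
    (Scheme.Modules.pushforwardCongr hiq').app _)).1 h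

/-- Over a quasi-compact base. -/
theorem exists_bound_global [CompactSpace S] (f : X ⟶ S) [IsProper f] [LocallyOfFinitePresentation f] {L : X.Modules}
    (hL : RelAmple.IsRelAmple f L) {F : X.Modules} (hF : CohB1.IsFP F) (hfl : FlatMod.IsFlatOver f F) :
    ∃ N : ℕ, ∀ n : ℕ, N ≤ n →
      FlatMod.IsFinLocFree ((Coh.push f).obj (CohB1.tensorMod F (CohB1.tensorPow L n))) := by
  classical
  obtain ⟨s, hs, hcov⟩ := (isCompact_iff_finite_and_eq_biUnion_affineOpens (U := (⊤ : S.Opens))).1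
    (by rw [Opens.coe_top]; exact isCompact_univ)
  choose N hN using fun V : S.affineOpens => by
    haveI : IsAffine V.1.toScheme := V.2
    exact exists_bound (f ∣_ V.1) (hL.2 V) (isFP_restrict (f ⁻¹ᵁ V.1).ι hF)
      (isFlatOver_restrict f (QCoh.isQCoh_of_isFP hF) hfl V.1)
  refine ⟨hs.toFinset.sup N, fun n hn => ?_⟩
  refine ConsPropLib.isFinLocFree_of_cover (Z := fun V : s => V.1.1.toScheme) (fun V => V.1.1.ι) (fun x => ?_)
    fun V => ?_
  · have hx : x ∈ ⨆ U ∈ s, (U : S.Opens) := hcov ▸ (trivial : x ∈ (⊤ : S.Opens))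
    simp only [Opens.mem_iSup] at hx
    obtain ⟨U, hU, hxU⟩ := hx
    exact ⟨⟨U, hU⟩, by rw [Scheme.Opens.range_ι]; exact hxU⟩
  · obtain ⟨t⟩ := AmpleVan.RelVanish.restrict_iso (f ⁻¹ᵁ V.1.1).ι L F n
    exact (ConsPropLib.isFinLocFree_iso (asIso ((H23.PullPush.pushRestrict f V.1.1).app
      (CohB1.tensorMod F (CohB1.tensorPow L n))) ≪≫ (Scheme.Modules.pushforward (f ∣_ V.1.1)).mapIso t)).2
      (hN V.1 n ((Finset.le_sup (hs.mem_toFinset.2 V.2)).trans hn))

end Groth.Agent.FlatRelAmple
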